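import Groth.Agent.KFlat.TorFlat
import Groth.Agent.QC.Localisation
import Groth.Agent.TildeKFlat.Main
import Mathlib.AlgebraicGeometry.Stalk

/-!
# Tor amplitude is detected by quasi-coherent modules
-/

set_option backward.isDefEq.respectTransparency false
set_option backward.isDefEq.respectTransparency.types false
set_option linter.style.haveILetI false
set_option autoImplicit false

universe u

open CategoryTheory Limits AlgebraicGeometry HomologicalComplex MonoidalCategory Opposite TopologicalSpace

attribute [local instance] HasDerivedCategory.standard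

namespace Groth.Agent.TorQC

variable {X : Scheme.{u}}

lemma isIso_stalkMap_fromSpecStalk (x : X) :
    IsIso ((X.fromSpecStalk x).stalkMap (IsLocalRing.closedPoint (X.presheaf.stalk x))) := by
  have e : (X.fromSpecStalk x).stalkMap (IsLocalRing.closedPoint (X.presheaf.stalk x)) =
      (X.presheaf.stalkCongr (.of_eq Scheme.fromSpecStalk_closedPoint)).hom ≫
        (AlgebraicGeometry.stalkClosedPointIso (X.presheaf.stalk x)).inv := by
    refine TopCat.Presheaf.stalk_hom_ext _ fun U hU => ?_
    have hx : x ∈ U := by rwa [Scheme.fromSpecStalk_closedPoint] at hU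
    rw [Scheme.Hom.germ_stalkMap, TopCat.Presheaf.stalkCongr_hom,
      TopCat.Presheaf.germ_stalkSpecializes_assoc, Scheme.fromSpecStalk_app hx]
    simp only [Category.assoc, TopCat.Presheaf.germ_res]
    congr 1
    rw [← AlgebraicGeometry.ΓSpecIso_hom_stalkClosedPointIso_inv, Iso.inv_hom_id_assoc]
  rw [e]
  infer_instance

/-- restriction along an isomorphism and its inverse -/
noncomputable def restrictInvIso {R S : CommRingCat.{u}} (φ : R ⟶ S) [IsIso φ] (G : ModuleCat.{u} R) :
    (ModuleCat.restrictScalars φ.hom).obj ((ModuleCat.restrictScalars (inv φ).hom).obj G) ≅ G :=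
  (show ((ModuleCat.restrictScalars φ.hom).obj ((ModuleCat.restrictScalars (inv φ).hom).obj G)) ≃ₗ[R] G from
    { toFun := fun g => g
      invFun := fun g => g
      map_add' := fun _ _ => rfl
      map_smul' := fun r g => by
        change ((inv φ).hom (φ.hom r)) • (show G from g) = r • (show G from g)
        rw [show (inv φ).hom (φ.hom r) = r from
          congrArg (fun t => t.hom r) (IsIso.hom_inv_id φ)]
      left_inv := fun _ => rfl
      right_inv := fun _ => rfl }).toModuleIso

lemma isIso_toStalkRing_closedPoint (R : CommRingCat.{u}) [IsLocalRing R] :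
    Function.Bijective (TildeKFlat.toStalkRing (R := R) (IsLocalRing.closedPoint R)) := by
  let c : Spec R := IsLocalRing.closedPoint R
  letI : Algebra R ((Spec R).presheaf.stalk c) := (StructureSheaf.toStalk R c).hom.toAlgebra
  haveI : IsLocalization c.asIdeal.primeCompl ((Spec R).presheaf.stalk c) :=
    inferInstanceAs (IsLocalization.AtPrime ((AlgebraicGeometry.structurePresheafInCommRingCat R).stalk c) c.asIdeal)
  have hu : c.asIdeal.primeCompl ≤ IsUnit.submonoid R := fun r hr => by
    by_contra h
    exact hr ((IsLocalRing.mem_maximalIdeal r).2 h)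
  exact (IsLocalization.atUnits R c.asIdeal.primeCompl hu).bijective

lemma germ_top_bijective (R : CommRingCat.{u}) [IsLocalRing R] (F : (Spec R).Opensᵒᵖ ⥤ Ab.{u}) :
    Function.Bijective (TopCat.Presheaf.germ (X := (Spec R).toTopCat) F ⊤ (IsLocalRing.closedPoint R) trivial) := by
  have htop : ∀ U : (Spec R).Opens, IsLocalRing.closedPoint R ∈ U → U = ⊤ := fun U hU =>
    IsLocalRing.closed_point_mem_iff.mp hU
  constructor
  · intro a b hab
    obtain ⟨W, hW, i, j, h⟩ := TopCat.Presheaf.germ_eq (X := (Spec R).toTopCat) F _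
      (show IsLocalRing.closedPoint R ∈ (⊤ : (Spec R).Opens) from trivial)
      (show IsLocalRing.closedPoint R ∈ (⊤ : (Spec R).Opens) from trivial) a b hab
    obtain rfl := htop W hW
    rw [Subsingleton.elim i (𝟙 _), Subsingleton.elim j (𝟙 _), op_id, F.map_id] at h
    exact h
  · intro v
    obtain ⟨U, hU, s, rfl⟩ := TopCat.Presheaf.exists_germ_eq (X := (Spec R).toTopCat) F
      (x := IsLocalRing.closedPoint R) v
    obtain rfl := htop U hU
    exact ⟨s, rfl⟩

/-- every module over a local ring of `X` is the stalk of a quasi-coherent module -/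
theorem exists_qcoh_stalk [QuasiSeparatedSpace X] (x : X) (G : ModuleCat.{u} (X.presheaf.stalk x)) :
    ∃ F : X.Modules, Coh.IsQCoh F ∧ Nonempty ((DerSch.stalkFunctor X x).obj F ≅ G) := by
  suffices key : ∀ G' : ModuleCat.{u} (X.presheaf.stalk
      ((X.fromSpecStalk x).base (IsLocalRing.closedPoint (X.presheaf.stalk x)))),
      ∃ F : X.Modules, Coh.IsQCoh F ∧ Nonempty ((DerSch.stalkFunctor X
        ((X.fromSpecStalk x).base (IsLocalRing.closedPoint (X.presheaf.stalk x)))).obj F ≅ G') by
    revert key G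
    generalize hy : (X.fromSpecStalk x).base (IsLocalRing.closedPoint (X.presheaf.stalk x)) = y
    rw [show y = x from hy.symm.trans Scheme.fromSpecStalk_closedPoint]
    exact fun G key => key G
  intro G'
  let R := X.presheaf.stalk x
  let s := X.fromSpecStalk x
  let c : Spec R := IsLocalRing.closedPoint R
  have := isIso_stalkMap_fromSpecStalk x
  let τ := TildeKFlat.toStalkRing (R := R) c
  have hτ : Function.Bijective τ := isIso_toStalkRing_closedPoint R
  let N' : ModuleCat.{u} ((Spec R).presheaf.stalk c) := (ModuleCat.restrictScalars (inv (s.stalkMap c)).hom).obj G'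
  let M : ModuleCat.{u} R := (ModuleCat.restrictScalars τ).obj N'
  have : (ModuleCat.restrictScalars τ).IsEquivalence :=
    ModuleCat.restrictScalars_isEquivalence_of_ringEquiv (RingEquiv.ofBijective τ hτ)
  let ε : (DerSch.stalkFunctor (Spec R) c).obj (tilde M) ≅ N' :=
    (@asIso _ _ _ _ (TildeKFlat.cmp c) (TildeKFlat.isIso_cmp c)).symm.app M ≪≫
      @asIso _ _ _ _ ((ModuleCat.extendRestrictScalarsAdj τ).counit.app N') inferInstance
  let F : X.Modules := (Scheme.Modules.pushforward s).obj (tilde M)
  let κ : F ⟶ (KFlat.sky (s.base c)).obj ((ModuleCat.restrictScalars (s.stalkMap c).hom).obj N') :=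
    (Scheme.Modules.pushforward s).map (KFlat.toSky c ε.hom) ≫ (KFlat.skyPushIso s c N').inv
  have : QuasiSeparatedSpace (Spec R) := inferInstance
  have : QuasiCompact s := quasiCompact_of_compactSpace s
  have : QuasiSeparated s := inferInstance
  have : ((tilde M : (Spec R).Modules)).IsQuasicoherent := inferInstance
  refine ⟨F, QC.isQCoh_pushforward s, ⟨?_⟩⟩
  have hκ : IsIso ((DerSch.stalkFunctor X (s.base c)).map κ) := by
    rw [ConcreteCategory.isIso_iff_bijective]
    have hU : ∀ U : X.Opens, s.base c ∈ U → Function.Bijective (κ.app U) := fun U hU => by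
      have hbij := germ_top_bijective R (tilde M).presheaf
      have hε : Function.Bijective ε.hom := ConcreteCategory.bijective_of_isIso ε.hom
      have htop : s ⁻¹ᵁ U = ⊤ := IsLocalRing.closed_point_mem_iff.mp hU
      have hc : c ∈ s ⁻¹ᵁ U := hU
      have hg : Function.Bijective (TopCat.Presheaf.germ (X := (Spec R).toTopCat) (tilde M).presheaf (s ⁻¹ᵁ U) c hc) := by
        revert hc
        rw [htop]
        exact fun _ => hbij
      have h := hε.comp hg
      have key : ∀ a, κ.app U a ⟨hU⟩ = ε.hom ((tilde M).presheaf.germ (s ⁻¹ᵁ U) c hU a) := fun a => rfl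
      exact ⟨fun a b hab => h.1 (((key a).symm.trans (congrFun hab ⟨hU⟩)).trans (key b)), fun v => by
        obtain ⟨a, ha⟩ := h.2 (v ⟨hU⟩)
        exact ⟨a, funext fun ⟨_⟩ => (key a).trans ha⟩⟩
    constructor
    · intro a b hab
      obtain ⟨U, hUa, sa, rfl⟩ := F.presheaf.exists_germ_eq (x := s.base c) a
      obtain ⟨V, hVb, sb, rfl⟩ := F.presheaf.exists_germ_eq (x := s.base c) b
      rw [DerSch.stalkFunctor_map_germ, DerSch.stalkFunctor_map_germ] at hab
      obtain ⟨W, hW, i, j, h⟩ := TopCat.Presheaf.germ_eq _ _ hUa hVb _ _ hab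
      have h' : κ.app W (F.presheaf.map i.op sa) = κ.app W (F.presheaf.map j.op sb) :=
        ((PresheafOfModules.naturality_apply κ.val i.op sa).trans h).trans
          (PresheafOfModules.naturality_apply κ.val j.op sb).symm
      rw [← F.presheaf.germ_res_apply i _ hW sa, ← F.presheaf.germ_res_apply j _ hW sb, (hU W hW).1 h']
    · intro v
      obtain ⟨U, hUv, sv, rfl⟩ := TopCat.Presheaf.exists_germ_eq
        ((KFlat.sky (s.base c)).obj ((ModuleCat.restrictScalars (s.stalkMap c).hom).obj N')).presheaf
        (x := s.base c) v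
      obtain ⟨a, rfl⟩ := (hU U hUv).2 sv
      exact ⟨_, DerSch.stalkFunctor_map_germ _ κ U hUv a⟩
  exact @asIso _ _ _ _ _ hκ ≪≫ KFlat.skyStalkIso _ _ ≪≫ restrictInvIso (s.stalkMap c) G'

/-- **Tor amplitude is detected by quasi-coherent test modules.** -/
theorem hasTorAmplitudeIn_of_qcoh [QuasiSeparatedSpace X] (E : DCoh.D X) (a b : ℤ)
    (h : ∀ (F : X.Modules), Coh.IsQCoh F → ∀ [DCoh.HasLTensorMod F] (i : ℤ), (i < a ∨ b < i) →
      IsZero (DCoh.HD ((DCoh.LTensorMod F).obj E) i)) :
    DCoh.HasTorAmplitudeIn a b E := by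
  obtain ⟨K, hK, -, ⟨e⟩⟩ := KFlat.exists_isKFlat_rep E
  refine KFlat.hasTorAmplitudeIn_of_torRep ⟨K, hK, ⟨e⟩, fun G i hi => ?_⟩
  refine KFlat.isZero_of_stalks _ fun x => ?_
  obtain ⟨F, hF, ⟨u⟩⟩ := exists_qcoh_stalk x ((DerSch.stalkFunctor X x).obj G)
  have := KFlat.hasLTensorMod F
  have hz : IsZero (((KFlat.tR F).obj K).homology i) :=
    (h F hF i hi).of_iso ((DerivedCategory.homologyFunctor X.Modules i).mapIso
      ((DCoh.LTensorMod F).mapIso e.symm ≪≫ KFlat.lTensorModIso F hK) ≪≫ KFlat.hdIso _ i).symm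
  let N : DCoh.tensorRightMod F ⋙ DerSch.stalkFunctor X x ≅ DCoh.tensorRightMod G ⋙ DerSch.stalkFunctor X x :=
    (KFlat.stTensorRightIso F x).symm ≪≫ Functor.isoWhiskerLeft _ ((tensoringRight _).mapIso u) ≪≫
      KFlat.stTensorRightIso G x
  let eC : (KFlat.stCx x).obj ((KFlat.tR G).obj K) ≅ (KFlat.stCx x).obj ((KFlat.tR F).obj K) :=
    Hom.isoOfComponents (fun n => (N.app (K.X n)).symm)
      fun p q _ => (N.inv.naturality (K.d p q)).symm
  exact ((DerSch.stalkFunctor X x).map_isZero hz).of_iso
    (((((KFlat.tR G).obj K).sc i).mapHomologyIso (DerSch.stalkFunctor X x)).symm ≪≫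
      (homologyFunctor _ _ i).mapIso eC ≪≫ (((KFlat.tR F).obj K).sc i).mapHomologyIso (DerSch.stalkFunctor X x))

end Groth.Agent.TorQC
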